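import Cfsg.Agent.SporB.He.F4
import Cfsg.Agent.SporB.He.Main
import Cfsg.Agent.Lib.Symplectic.Card

/-!
The subgroup of index 4116 of `He` is `Sp₄(4)`: both satisfy the local relators, and these bound
the order by that of `Sp₄(4)`.
-/

set_option autoImplicit false
set_option maxRecDepth 100000

namespace Cfsg.Agent.CosetEnum

/-- A certificate over listed elements bounds a relative index. -/
theorem relIndex_le_list {G : Type} [Group G] {S : Sys} {n D N : ℕ} (C : Cert S n D N)
    (gs : List G) (hnl : S.nl = gs.length)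
    (hinv : allRange (fun l => Nat.beq (S.inv l) l) 0 (S.nl + 1) = true)
    (hsq : ∀ g ∈ gs, g * g = 1) {rels subs : List (List ℕ)}
    (hrels : ∀ W ∈ rels, evalWord (fun l => gs.getD l 1) W = 1)
    (hrules : S.rules.all (fun R => R.check S rels subs) = true) {K : Subgroup G}
    (hK : ∀ W ∈ subs, evalWord (fun l => gs.getD l 1) W ∈ K) :
    K.relIndex (Subgroup.closure {g | g ∈ gs}) ≠ 0 ∧
      K.relIndex (Subgroup.closure {g | g ∈ gs}) ≤ n := by
  have hL : Letters S (fun l => gs.getD l 1) :=
    { ident := by simp [hnl, List.getD_eq_default]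
      inv := fun l hl => by
        rw [Nat.eq_of_beq_eq_true (allRange_spec hinv l (Nat.zero_le _) (by omega))]
        symm
        apply inv_eq_of_mul_eq_one_right
        rcases Nat.lt_or_ge l gs.length with h | h
        · rw [List.getD_eq_getElem _ _ h]
          exact hsq _ (List.getElem_mem h)
        · rw [List.getD_eq_default _ _ h]
          exact one_mul 1 }
  refine C.relIndex_le hL ?_ fun i => hL.valid hrels hK (DTree.all_get hrules i)
  apply Subgroup.closure_mono
  intro g hg
  obtain ⟨l, hl, rfl⟩ := List.getElem_of_mem (show g ∈ gs from hg)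
  exact ⟨l, (show l < S.nl by omega), List.getD_eq_getElem _ _ hl⟩

theorem evalWord_map {G H : Type} [Group G] [Group H] (f : G →* H) (val : ℕ → G) :
    ∀ W : List ℕ, f (evalWord val W) = evalWord (fun l => f (val l)) W
  | [] => f.map_one
  | l :: ls => by
    show f (val l * evalWord val ls) = f (val l) * evalWord _ ls
    rw [map_mul, evalWord_map f val ls]

namespace He

open Symplectic

/-- The value of a letter among the six symplectic involutions. -/
def spVal (l : ℕ) : Sp 2 F4 := gens.getD l 1

theorem gens_length : gens.length = 6 := rfl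

theorem coe_spVal (l : ℕ) :
    ((spVal l : Sp 2 F4) : Matrix (Fin 2 ⊕ Fin 2) (Fin 2 ⊕ Fin 2) F4) = mats.getD l 1 := by
  rcases Nat.lt_or_ge l 6 with h | h
  · interval_cases l <;> rfl
  · rw [spVal, List.getD_eq_default _ _ (by rw [gens_length]; omega),
      List.getD_eq_default _ _ (show mats.length ≤ l from h)]
    rfl

theorem coe_evalWord : ∀ W : List ℕ,
    ((evalWord spVal W : Sp 2 F4) : Matrix (Fin 2 ⊕ Fin 2) (Fin 2 ⊕ Fin 2) F4) =
      (W.map fun l => mats.getD l 1).prod
  | [] => rfl
  | l :: ls => by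
    show ((spVal l : Sp 2 F4) : Matrix (Fin 2 ⊕ Fin 2) (Fin 2 ⊕ Fin 2) F4) * _ = _
    rw [coe_spVal, coe_evalWord ls]
    rfl

theorem sp_rels_ok : locRels.all (fun W => decide ((W.map fun l => mats.getD l 1).prod = 1)) = true := by
  decide +kernel

theorem sp_rels : ∀ W ∈ locRels, evalWord spVal W = 1 := by
  intro W hW
  apply Subtype.ext
  rw [coe_evalWord]
  exact of_decide_eq_true (List.all_eq_true.mp sp_rels_ok W hW)

/-- The subgroup generated by the symplectic involutions. -/
def image : Subgroup (Sp 2 F4) := Subgroup.closure (Set.range spVal)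

theorem evalWord_mem_image : ∀ W : List ℕ, evalWord spVal W ∈ image
  | [] => one_mem _
  | l :: ls => mul_mem (Subgroup.subset_closure ⟨l, rfl⟩) (evalWord_mem_image ls)

/-- The check that the tree visits only images of visited vectors. -/
def treeOk : List ℕ → List (ℕ × ℕ × ℕ) → Bool
  | _, [] => true
  | seen, (l, x, y) :: rest => seen.contains x &&
      decide ((mats.getD l 1).mulVec (vecOf x) = vecOf y) && treeOk (y :: seen) rest

theorem treeOk_tree : treeOk [root] tree = true := by decide +kernel

theorem treeOk_spec {P : Vec 2 F4 → Prop} (hP : ∀ l v, P v → P ((mats.getD l 1).mulVec v)) :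
    ∀ (t : List (ℕ × ℕ × ℕ)) (seen : List ℕ), (∀ x ∈ seen, P (vecOf x)) → treeOk seen t = true →
      ∀ q ∈ t, P (vecOf q.2.2)
  | [], _, _, _ => by simp
  | (l, x, y) :: rest, seen, hseen, h => by
    simp only [treeOk, Bool.and_eq_true, List.contains_iff_mem, decide_eq_true_eq] at h
    have hy : P (vecOf y) := h.1.2 ▸ hP l _ (hseen x h.1.1)
    intro q hq
    rcases List.mem_cons.mp hq with rfl | hq
    · exact hy
    · exact treeOk_spec hP rest _ (List.forall_mem_cons.mpr ⟨hy, hseen⟩) h.2 q hq

/-- The code of a vector. -/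
def code (a b c d : F4) : ℕ :=
  [F4.z, F4.e, F4.w, F4.x].idxOf a + 4 * [F4.z, F4.e, F4.w, F4.x].idxOf b +
    16 * [F4.z, F4.e, F4.w, F4.x].idxOf c + 64 * [F4.z, F4.e, F4.w, F4.x].idxOf d

theorem code_ok : ([F4.z, F4.e, F4.w, F4.x].all fun a => [F4.z, F4.e, F4.w, F4.x].all fun b =>
    [F4.z, F4.e, F4.w, F4.x].all fun c => [F4.z, F4.e, F4.w, F4.x].all fun d =>
      decide (vecOf (code a b c d) = Sum.elim ![a, b] ![c, d]) &&
        (0 :: root :: tree.map fun q => q.2.2).contains (code a b c d)) = true := by
  decide +kernel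

theorem rootWords_ok : rootWords.all (fun p => decide
    ((p.2.map fun l => mats.getD l 1).prod = sympTransvection 2 (vecOf root) p.1)) = true := by
  decide +kernel

theorem tv_root (c : F4) : tv (vecOf root) c ∈ image := by
  rcases eq_or_ne c F4.z with rfl | hc
  · rw [show (F4.z : F4) = 0 from rfl, tv_zero]
    exact one_mem _
  · obtain ⟨W, hW⟩ : ∃ W, (c, W) ∈ rootWords := by
      cases c
      · exact absurd rfl hc
      all_goals exact ⟨_, by simp only [rootWords, List.mem_cons, Prod.mk.injEq, reduceCtorEq,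
        false_and, true_and, false_or, or_false, List.not_mem_nil]; rfl⟩
    have h := of_decide_eq_true (List.all_eq_true.mp rootWords_ok _ hW)
    have he : evalWord spVal W = tv (vecOf root) c := Subtype.ext ((coe_evalWord W).trans h)
    exact he ▸ evalWord_mem_image W

theorem tv_mem_image (v : Vec 2 F4) : ∀ c, tv v c ∈ image := by
  have hmem : ∀ q ∈ tree, ∀ c, tv (vecOf q.2.2) c ∈ image :=
    treeOk_spec (P := fun v => ∀ c, tv v c ∈ image)
      (fun l w hw c => by
        rw [← coe_spVal, ← Symplectic.smul_eq, ← conj_tv]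
        have hg : spVal l ∈ image := Subgroup.subset_closure ⟨l, rfl⟩
        exact mul_mem (mul_mem hg (hw c)) (inv_mem hg))
      tree [root] (by simpa using tv_root) treeOk_tree
  have hall : ∀ a : F4, a ∈ [F4.z, F4.e, F4.w, F4.x] := by intro a; cases a <;> simp
  have h := code_ok
  simp only [List.all_eq_true, Bool.and_eq_true, decide_eq_true_eq, List.contains_iff_mem] at h
  obtain ⟨hv, hc⟩ := h (v (Sum.inl 0)) (hall _) (v (Sum.inl 1)) (hall _) (v (Sum.inr 0)) (hall _)
    (v (Sum.inr 1)) (hall _)
  have hv' : vecOf (code (v (Sum.inl 0)) (v (Sum.inl 1)) (v (Sum.inr 0)) (v (Sum.inr 1))) = v := by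
    rw [hv]
    funext i
    rcases i with i | i <;> fin_cases i <;> rfl
  rw [← hv']
  rcases List.mem_cons.mp hc with h0 | h0
  · rw [h0]
    intro c
    have : tv (vecOf 0) c = 1 := eq_of_smul_eq fun x => by
      have hz : vecOf 0 = (0 : Vec 2 F4) := by funext i; rcases i with i | i <;> fin_cases i <;> rfl
      rw [hz]; simp [tv_smul]
    rw [this]
    exact one_mem _
  rcases List.mem_cons.mp h0 with h1 | h1
  · rw [h1]
    exact tv_root
  · obtain ⟨q, hq, hqe⟩ := List.mem_map.mp h1
    rw [← hqe]
    exact hmem q hq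

theorem image_eq_top : image = ⊤ := by
  rw [eq_top_iff, ← tvGroup_empty, tvGroup, Subgroup.closure_le]
  rintro _ ⟨w, -, c, rfl⟩
  exact tv_mem_image w c

theorem card_sp : Nat.card (Sp 2 F4) = 979200 := by
  rw [card_Sp F4.card_eq 2]
  rfl

/-- Letters in the product of `He` and `Sp₄(4)`. -/
def pairVal (l : ℕ) : pres.Gp × Sp 2 F4 := (locVal pres.val loc l, spVal l)

theorem pairVal_rel : ∀ W ∈ locRels, evalWord pairVal W = 1 := by
  intro W hW
  refine Prod.ext ?_ ?_
  · refine (evalWord_map (MonoidHom.fst pres.Gp (Sp 2 F4)) pairVal W).trans ?_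
    exact (evalWord_locVal pres.val loc W).trans (locRels_one W hW)
  · exact (evalWord_map (MonoidHom.snd pres.Gp (Sp 2 F4)) pairVal W).trans (sp_rels W hW)

/-- The six pairs. -/
def pairs : List (pres.Gp × Sp 2 F4) := (List.range 6).map pairVal

/-- The first five pairs. -/
def pairs5 : List (pres.Gp × Sp 2 F4) := (List.range 5).map pairVal

/-- The pairs for `d`, `e`, `f`. -/
def pairs3 : List (pres.Gp × Sp 2 F4) := [2, 3, 4].map pairVal

/-- The subgroup generated by the pairs. -/
def glue : Subgroup (pres.Gp × Sp 2 F4) := Subgroup.closure {g | g ∈ pairs}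

theorem evalWord_getD (ls : List ℕ) : ∀ W : List ℕ, (∀ l ∈ W, l < ls.length) →
    evalWord (fun l => (ls.map pairVal).getD l 1) W = evalWord pairVal (W.map fun l => ls.getD l 0)
  | [], _ => rfl
  | l :: W, h => by
    have hl := h l List.mem_cons_self
    show (ls.map pairVal).getD l 1 * _ = pairVal (ls.getD l 0) * _
    rw [evalWord_getD ls W fun x hx => h x (List.mem_cons_of_mem _ hx),
      List.getD_eq_getElem _ _ (by simpa using hl), List.getElem_map, List.getD_eq_getElem _ _ hl]

theorem pairs_rels (ls : List ℕ) {rels : List (List ℕ)}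
    (h : rels.all (fun W => W.all (fun l => Nat.blt l ls.length) &&
      decide (W.map (fun l => ls.getD l 0) ∈ locRels)) = true) :
    ∀ W ∈ rels, evalWord (fun l => (ls.map pairVal).getD l 1) W = 1 := by
  intro W hW
  simp only [List.all_eq_true, Bool.and_eq_true, decide_eq_true_eq] at h
  rw [evalWord_getD ls W fun l hl => Nat.le_of_ble_eq_true ((h W hW).1 l hl)]
  exact pairVal_rel _ (h W hW).2

theorem pairs_sq (ls : List ℕ) (h : ls.all (fun l => decide ([l, l] ∈ locRels)) = true) :
    ∀ g ∈ ls.map pairVal, g * g = 1 := by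
  intro g hg
  obtain ⟨l, hl, rfl⟩ := List.mem_map.mp hg
  simpa [evalWord] using pairVal_rel [l, l] (of_decide_eq_true (List.all_eq_true.mp h l hl))

theorem pairs_subs (ls ls' : List ℕ) {subs : List (List ℕ)}
    (h : subs.all (fun W => W.all fun l => Nat.blt l ls.length && decide (ls.getD l 0 ∈ ls')) = true) :
    ∀ W ∈ subs, evalWord (fun l => (ls.map pairVal).getD l 1) W ∈
      Subgroup.closure {g | g ∈ ls'.map pairVal} := by
  intro W hW
  simp only [List.all_eq_true, Bool.and_eq_true, decide_eq_true_eq] at h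
  rw [evalWord_getD ls W fun l hl => Nat.le_of_ble_eq_true (h W hW l hl).1]
  have : ∀ V : List ℕ, (∀ x ∈ V, x ∈ ls') →
      evalWord pairVal V ∈ Subgroup.closure {g | g ∈ ls'.map pairVal} := by
    intro V
    induction V with
    | nil => exact fun _ => one_mem _
    | cons x V ih =>
      intro hV
      exact mul_mem (Subgroup.subset_closure (List.mem_map_of_mem (hV x List.mem_cons_self)))
        (ih fun y hy => hV y (List.mem_cons_of_mem _ hy))
  refine this _ fun x hx => ?_
  obtain ⟨l, hl, rfl⟩ := List.mem_map.mp hx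
  exact (h W hW l hl).2

theorem card_glue_le : Nat.card glue ≠ 0 ∧ Nat.card glue ≤ 979200 := by
  have hL := relIndex_le_list L.cert pairs rfl L.inv_ok (pairs_sq (List.range 6) (by decide +kernel))
    (rels := L.rels) (pairs_rels (List.range 6) (by decide +kernel)) L.rules_ok
    (pairs_subs (List.range 6) (List.range 5) (by decide +kernel))
  have hK := relIndex_le_list K.cert pairs5 rfl K.inv_ok (pairs_sq (List.range 5) (by decide +kernel))
    (rels := K.rels) (pairs_rels (List.range 5) (by decide +kernel)) K.rules_ok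
    (pairs_subs (List.range 5) [2, 3, 4] (by decide +kernel))
  have hD := relIndex_le_list D.cert pairs3 rfl D.inv_ok (pairs_sq [2, 3, 4] (by decide +kernel))
    (rels := D.rels) (pairs_rels [2, 3, 4] (by decide +kernel)) D.rules_ok
    (K := ⊥) (fun W hW => absurd hW (List.not_mem_nil (a := W)))
  have h1 : Subgroup.closure {g | g ∈ pairs3} ≤ Subgroup.closure {g | g ∈ pairs5} :=
    Subgroup.closure_mono fun g hg => List.map_subset _ (by decide : [2, 3, 4] ⊆ List.range 5) hg
  have h2 : Subgroup.closure {g | g ∈ pairs5} ≤ glue :=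
    Subgroup.closure_mono fun g hg =>
      List.map_subset _ (by decide : List.range 5 ⊆ List.range 6) hg
  have e : Nat.card glue = (⊥ : Subgroup (pres.Gp × Sp 2 F4)).relIndex (Subgroup.closure {g | g ∈ pairs3}) *
      (Subgroup.closure {g | g ∈ pairs3}).relIndex (Subgroup.closure {g | g ∈ pairs5}) *
      (Subgroup.closure {g | g ∈ pairs5}).relIndex glue := by
    rw [Subgroup.relIndex_mul_relIndex _ _ _ bot_le h1,
      Subgroup.relIndex_mul_relIndex _ _ _ bot_le h2, Subgroup.relIndex_bot_left]
  rw [e]
  refine ⟨?_, ?_⟩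
  · simp only [Nat.mul_ne_zero_iff]
    exact ⟨⟨hD.1, hK.1⟩, hL.1⟩
  · calc _ ≤ 24 * 160 * 255 := Nat.mul_le_mul (Nat.mul_le_mul hD.2 hK.2) hL.2
      _ = _ := by norm_num

theorem card_loc : Nat.card (pres.wsub loc) = 979200 ∧ (pres.wsub loc).index = 4116 := by
  have hi : (pres.wsub loc).index ≠ 0 ∧ (pres.wsub loc).index ≤ 4116 := by
    have := bound_G2; rwa [Subgroup.relIndex_top_right] at this
  have h1 : pres.wsub loc3 ≤ pres.wsub loc5 := pres.wsub_mono (by decide)
  have h2 : pres.wsub loc5 ≤ pres.wsub loc := pres.wsub_mono (by decide)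
  have hc : Nat.card (pres.wsub loc) ≤ 979200 := by
    rw [show Nat.card (pres.wsub loc) = (⊥ : Subgroup pres.Gp).relIndex (pres.wsub loc3) *
      (pres.wsub loc3).relIndex (pres.wsub loc5) * (pres.wsub loc5).relIndex (pres.wsub loc) by
      rw [Subgroup.relIndex_mul_relIndex _ _ _ bot_le h1,
        Subgroup.relIndex_mul_relIndex _ _ _ bot_le h2, Subgroup.relIndex_bot_left]]
    calc _ ≤ 24 * 160 * 255 := Nat.mul_le_mul (Nat.mul_le_mul bound_D.2 bound_K.2) bound_L.2
      _ = _ := by norm_num
  have h := Subgroup.card_mul_index (pres.wsub loc)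
  rw [card_eq.1] at h
  constructor <;> nlinarith [hi.2, hc]

/-- The first projection of the glued subgroup. -/
def toHe : glue →* pres.Gp := (MonoidHom.fst pres.Gp (Sp 2 F4)).comp glue.subtype

/-- The second projection of the glued subgroup. -/
def toSp : glue →* Sp 2 F4 := (MonoidHom.snd pres.Gp (Sp 2 F4)).comp glue.subtype

theorem toHe_range : toHe.range = pres.wsub loc := by
  rw [toHe, MonoidHom.range_comp, Subgroup.range_subtype, glue, MonoidHom.map_closure, InvPres.wsub]
  congr 1
  have hloc : loc = (List.range 6).map fun l => loc.getD l [] := by decide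
  ext g
  constructor
  · rintro ⟨p, hp, rfl⟩
    obtain ⟨l, hl, rfl⟩ := List.mem_map.mp (show p ∈ pairs from hp)
    exact ⟨loc.getD l [], by rw [hloc]; exact List.mem_map_of_mem hl, rfl⟩
  · rintro ⟨W, hW, rfl⟩
    rw [hloc] at hW
    obtain ⟨l, hl, rfl⟩ := List.mem_map.mp hW
    exact ⟨pairVal l, List.mem_map_of_mem hl, rfl⟩

theorem toSp_surjective : Function.Surjective toSp := by
  rw [← MonoidHom.range_eq_top, eq_top_iff, ← image_eq_top, image, Subgroup.closure_le]
  rintro _ ⟨l, rfl⟩
  rcases Nat.lt_or_ge l 6 with h | h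
  · exact ⟨⟨pairVal l, Subgroup.subset_closure (List.mem_map_of_mem (List.mem_range.mpr h))⟩, rfl⟩
  · rw [spVal, List.getD_eq_default _ _ (by rw [gens_length]; omega)]
    exact one_mem _

theorem card_glue : Nat.card glue = 979200 := by
  haveI : Finite glue := Nat.finite_of_card_ne_zero card_glue_le.1
  exact le_antisymm card_glue_le.2 (card_sp ▸ Nat.card_le_card_of_surjective _ toSp_surjective)

/-- The index-4116 subgroup is `Sp₄(4)`. -/
theorem loc_iso : Nonempty (pres.wsub loc ≃* Matrix.symplecticGroup (Fin 2) F4) := by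
  haveI : Finite glue := Nat.finite_of_card_ne_zero card_glue_le.1
  haveI : Finite (pres.wsub loc) := Nat.finite_of_card_ne_zero (by rw [card_loc.1]; norm_num)
  have b1 : Function.Bijective toHe.rangeRestrict :=
    (toHe.rangeRestrict_surjective).bijective_of_nat_card_le
      (by rw [card_glue, toHe_range, card_loc.1])
  haveI : Finite (Sp 2 F4) := Nat.finite_of_card_ne_zero (by rw [card_sp]; norm_num)
  have b2 : Function.Bijective toSp :=
    toSp_surjective.bijective_of_nat_card_le (by rw [card_glue, card_sp])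
  exact ⟨(MulEquiv.subgroupCongr toHe_range).symm.trans
    ((MulEquiv.ofBijective toHe.rangeRestrict b1).symm.trans (MulEquiv.ofBijective toSp b2))⟩

theorem loc_le_stab : pres.wsub loc ≤ rep.stab nodup :=
  pres.wsub_le_stab rep nodup _ (by decide +kernel)

/-- The stabiliser has a normal subgroup of index two isomorphic to `Sp₄(4)`. -/
theorem stab_sp44 {H : Subgroup pres.Gp} (e : H = rep.stab nodup) :
    ∃ (N : Subgroup H) (K : Type) (_ : Field K) (_ : Fintype K),
      N.Normal ∧ N.index = 2 ∧ Fintype.card K = 4 ∧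
        Nonempty (N ≃* Matrix.symplecticGroup (Fin 2) K) := by
  subst e
  have h2 : ((pres.wsub loc).subgroupOf (rep.stab nodup)).index = 2 := by
    have h := Subgroup.relIndex_mul_index loc_le_stab
    rw [rep.index_stab nodup Rep.descend, card_loc.2] at h
    exact Nat.eq_of_mul_eq_mul_right (by decide : 0 < 2058) (h.trans (by norm_num))
  exact ⟨_, F4, inferInstance, inferInstance, Subgroup.normal_of_index_eq_two h2, h2, F4.card_eq,
    loc_iso.map ((Subgroup.subgroupOfEquivOfLe loc_le_stab).trans ·)⟩

end He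

end Cfsg.Agent.CosetEnum
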