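import Cfsg.Prelude.Def_Sporadic
import Cfsg.Agent.SporB.He.Sp44

set_option autoImplicit false
set_option maxRecDepth 100000

namespace Cfsg.Agent.CosetEnum.He

theorem perm_realization : ∃ H : Subgroup (Equiv.Perm (Fin 2058)), Cfsg.IsHe H ∧
    MulAction.IsPretransitive H (Fin 2058) ∧ ∃ (F : Type) (_ : Field F) (_ : Fintype F),
      Fintype.card F = 4 ∧ ∃ N : Subgroup (MulAction.stabilizer H (0 : Fin 2058)),
        N.index = 2 ∧ Nonempty (N ≃* Matrix.symplecticGroup (Fin 2) F) := by
  let f : pres.Gp →* Equiv.Perm (Fin 2058) := rep.hom nodup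
  have hinj : Function.Injective f := card_eq.2
  let e : pres.Gp ≃* f.range := MonoidHom.ofInjective hinj
  refine ⟨f.range, ⟨?_, ?_⟩, ?_, ?_⟩
  · haveI := simple
    exact e.symm.isSimpleGroup
  · rw [← Nat.card_congr e.toEquiv, card_eq.1]
  · refine (MulAction.isPretransitive_iff_base (0 : Fin 2058)).mpr fun i => ?_
    obtain ⟨g, hg⟩ := rep.transitive nodup Rep.descend i
    exact ⟨e g, hg⟩
  · let φ : rep.stab nodup ≃* MulAction.stabilizer f.range (0 : Fin 2058) :=
      { toFun := fun g => ⟨e g, g.2⟩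
        invFun := fun g => ⟨e.symm g, by
          have h : e (e.symm g) = (g : f.range) := e.apply_symm_apply _
          show f (e.symm g) (0 : Fin 2058) = 0
          rw [show f (e.symm g) = ((g : f.range) : Equiv.Perm (Fin 2058)) from congrArg Subtype.val h]
          exact g.2⟩
        left_inv := fun g => Subtype.ext (e.symm_apply_apply _)
        right_inv := fun g => Subtype.ext (e.apply_symm_apply _)
        map_mul' := fun a b => Subtype.ext (e.map_mul _ _) }
    obtain ⟨N, K, hF, hK, -, hN, hc, ⟨i⟩⟩ := stab_sp44 (rfl : rep.stab nodup = _)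
    refine ⟨K, hF, hK, hc, N.map φ.toMonoidHom, ?_, ⟨(φ.subgroupMap N).symm.trans i⟩⟩
    rw [← hN]
    exact Subgroup.index_map_equiv N φ

end Cfsg.Agent.CosetEnum.He
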