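import Cfsg.Agent.SporB.He.Main

set_option autoImplicit false
set_option maxRecDepth 100000

namespace Cfsg.Agent.CosetEnum.He

theorem val0 : pres.val 0 = PresentedGroup.mk (Cfsg.Spor.coxRelators Cfsg.Spor.He.edges ∪ {r | r ∈ Cfsg.Spor.He.extra}) Cfsg.Spor.He.a := rfl

theorem val1 : pres.val 1 = PresentedGroup.mk (Cfsg.Spor.coxRelators Cfsg.Spor.He.edges ∪ {r | r ∈ Cfsg.Spor.He.extra}) Cfsg.Spor.He.b := rfl

theorem val2 : pres.val 2 = PresentedGroup.mk (Cfsg.Spor.coxRelators Cfsg.Spor.He.edges ∪ {r | r ∈ Cfsg.Spor.He.extra}) Cfsg.Spor.He.c := rfl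

theorem val3 : pres.val 3 = PresentedGroup.mk (Cfsg.Spor.coxRelators Cfsg.Spor.He.edges ∪ {r | r ∈ Cfsg.Spor.He.extra}) Cfsg.Spor.He.d := rfl

theorem val4 : pres.val 4 = PresentedGroup.mk (Cfsg.Spor.coxRelators Cfsg.Spor.He.edges ∪ {r | r ∈ Cfsg.Spor.He.extra}) Cfsg.Spor.He.e := rfl

theorem val5 : pres.val 5 = PresentedGroup.mk (Cfsg.Spor.coxRelators Cfsg.Spor.He.edges ∪ {r | r ∈ Cfsg.Spor.He.extra}) Cfsg.Spor.He.f := rfl

theorem val6 : pres.val 6 = PresentedGroup.mk (Cfsg.Spor.coxRelators Cfsg.Spor.He.edges ∪ {r | r ∈ Cfsg.Spor.He.extra}) Cfsg.Spor.He.g := rfl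

theorem eval_long : evalWord pres.val (repWord [1, 2, 3, 4] 7) =
    PresentedGroup.mk (Cfsg.Spor.coxRelators Cfsg.Spor.He.edges ∪ {r | r ∈ Cfsg.Spor.He.extra}) ((Cfsg.Spor.He.b * Cfsg.Spor.He.c * Cfsg.Spor.He.d * Cfsg.Spor.He.e) ^ 7) := by
  simp only [evalWord_repWord, evalWord, mul_one]
  simp only [val1, val2, val3, val4, map_pow, map_mul, mul_assoc]
  rfl

theorem eval_abab : evalWord pres.val [0, 1, 0, 1] =
    PresentedGroup.mk (Cfsg.Spor.coxRelators Cfsg.Spor.He.edges ∪ {r | r ∈ Cfsg.Spor.He.extra}) ((Cfsg.Spor.He.a * Cfsg.Spor.He.b) ^ 2) := by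
  simp only [evalWord, mul_one]
  simp only [val0, val1, map_mul, pow_two, mul_assoc]
  rfl

theorem H_eq : (Subgroup.closure ({Cfsg.Spor.He.a, Cfsg.Spor.He.c, Cfsg.Spor.He.d, Cfsg.Spor.He.e, Cfsg.Spor.He.f, (Cfsg.Spor.He.a * Cfsg.Spor.He.b) ^ 2, (Cfsg.Spor.He.b * Cfsg.Spor.He.c * Cfsg.Spor.He.d * Cfsg.Spor.He.e) ^ 7} : Set (FreeGroup Cfsg.Spor.He.Gen))).map (PresentedGroup.mk (Cfsg.Spor.coxRelators Cfsg.Spor.He.edges ∪ {r | r ∈ Cfsg.Spor.He.extra})) =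
    pres.wsub Rep.ws := by
  rw [MonoidHom.map_closure, InvPres.wsub]
  simp only [Set.image_insert_eq, Set.image_singleton]
  apply congrArg Subgroup.closure
  ext g
  show _ ↔ ∃ W ∈ Rep.ws, evalWord pres.val W = g
  have hl : Rep.ws = [[0], [2], [3], [4], [5], [0, 1, 0, 1], repWord [1, 2, 3, 4] 7] := by decide
  simp only [hl, List.mem_cons, List.not_mem_nil, or_false, exists_eq_or_imp, exists_eq_left,
    Set.mem_insert_iff, Set.mem_singleton_iff]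
  rw [eval_long, eval_abab]
  simp only [evalWord, mul_one]
  simp only [val0, val2, val3, val4, val5]
  repeat' apply or_congr
  all_goals exact eq_comm

theorem subdegrees_of_eq {H : Subgroup pres.Gp} (e : H = rep.stab nodup) : ∃ q₁ q₂ q₃ q₄ : pres.Gp ⧸ H,
    MulAction.orbit H q₁ ≠ MulAction.orbit H q₂ ∧
    (MulAction.orbit H q₁).ncard = 136 ∧ (MulAction.orbit H q₂).ncard = 136 ∧
    (MulAction.orbit H q₃).ncard = 425 ∧ (MulAction.orbit H q₄).ncard = 1360 := by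
  subst e
  exact subdegrees

end Cfsg.Agent.CosetEnum.He
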