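import Cfsg.Agent.Lib.Symplectic.Basic
import Cfsg.Agent.Lib.CosetEnum.Bound

/-!
The field with four elements and six involutions generating `Sp₄(4)`.
-/

set_option autoImplicit false
set_option maxRecDepth 100000

namespace Cfsg.Agent.CosetEnum.He

/-- The field with four elements. -/
inductive F4 where
  | z | e | w | x
  deriving DecidableEq

namespace F4

instance : Fintype F4 :=
  ⟨⟨([.z, .e, .w, .x] : List F4), by decide⟩, fun a => by cases a <;> decide⟩

def addT : F4 → F4 → F4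
  | .z, .z => .z
  | .z, .e => .e
  | .z, .w => .w
  | .z, .x => .x
  | .e, .z => .e
  | .e, .e => .z
  | .e, .w => .x
  | .e, .x => .w
  | .w, .z => .w
  | .w, .e => .x
  | .w, .w => .z
  | .w, .x => .e
  | .x, .z => .x
  | .x, .e => .w
  | .x, .w => .e
  | .x, .x => .z

def mulT : F4 → F4 → F4
  | .z, .z => .z
  | .z, .e => .z
  | .z, .w => .z
  | .z, .x => .z
  | .e, .z => .z
  | .e, .e => .e
  | .e, .w => .w
  | .e, .x => .x
  | .w, .z => .z
  | .w, .e => .w
  | .w, .w => .x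
  | .w, .x => .e
  | .x, .z => .z
  | .x, .e => .x
  | .x, .w => .e
  | .x, .x => .w

/-- Inversion. -/
def invT : F4 → F4
  | .z => .z
  | .e => .e
  | .w => .x
  | .x => .w

instance : Add F4 := ⟨addT⟩
instance : Mul F4 := ⟨mulT⟩
instance : Zero F4 := ⟨.z⟩
instance : One F4 := ⟨.e⟩
instance : Neg F4 := ⟨id⟩
instance : Inv F4 := ⟨invT⟩

instance : Field F4 where
  add_assoc := by decide
  zero_add := by decide
  add_zero := by decide
  add_comm := by decide
  neg_add_cancel := by decide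
  mul_assoc := by decide
  one_mul := by decide
  mul_one := by decide
  mul_comm := by decide
  left_distrib := by decide
  right_distrib := by decide
  zero_mul := by decide
  mul_zero := by decide
  exists_pair_ne := ⟨.z, .e, by decide⟩
  mul_inv_cancel := by decide
  inv_zero := by decide
  nsmul := nsmulRec
  zsmul := zsmulRec
  nnqsmul := _
  nnqsmul_def := fun _ _ => rfl
  qsmul := _
  qsmul_def := fun _ _ => rfl

/-- All four elements. -/
theorem card_eq : Fintype.card F4 = 4 := rfl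

end F4

/-- The six matrices. -/
def mats : List (Matrix (Fin 2 ⊕ Fin 2) (Fin 2 ⊕ Fin 2) F4) := [
  Matrix.of (Sum.elim ![Sum.elim ![.e, .z] ![.z, .z], Sum.elim ![.z, .e] ![.z, .z]] ![Sum.elim ![.e, .z] ![.e, .z], Sum.elim ![.z, .z] ![.z, .e]]),
  Matrix.of (Sum.elim ![Sum.elim ![.e, .z] ![.z, .z], Sum.elim ![.z, .x] ![.z, .w]] ![Sum.elim ![.z, .z] ![.e, .z], Sum.elim ![.z, .w] ![.z, .x]]),
  Matrix.of (Sum.elim ![Sum.elim ![.e, .z] ![.z, .z], Sum.elim ![.z, .e] ![.z, .z]] ![Sum.elim ![.e, .z] ![.e, .z], Sum.elim ![.z, .e] ![.z, .e]]),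
  Matrix.of (Sum.elim ![Sum.elim ![.e, .z] ![.z, .z], Sum.elim ![.z, .z] ![.z, .e]] ![Sum.elim ![.e, .z] ![.e, .z], Sum.elim ![.z, .e] ![.z, .z]]),
  Matrix.of (Sum.elim ![Sum.elim ![.e, .z] ![.z, .z], Sum.elim ![.e, .z] ![.z, .e]] ![Sum.elim ![.z, .e] ![.e, .e], Sum.elim ![.e, .e] ![.z, .z]]),
  Matrix.of (Sum.elim ![Sum.elim ![.z, .e] ![.e, .e], Sum.elim ![.e, .e] ![.e, .z]] ![Sum.elim ![.e, .e] ![.z, .e], Sum.elim ![.e, .z] ![.e, .e]])]

theorem mats_ok : mats.all (fun A => decide (A * Matrix.J (Fin 2) F4 * A.transpose = Matrix.J (Fin 2) F4)) = true := by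
  decide +kernel

theorem mats_mem : ∀ A ∈ mats, A * Matrix.J (Fin 2) F4 * A.transpose = Matrix.J (Fin 2) F4 :=
  fun A hA => of_decide_eq_true (List.all_eq_true.mp mats_ok A hA)

/-- The six group elements. -/
def gens : List (Symplectic.Sp 2 F4) :=
  mats.pmap (fun A h => ⟨A, SymplecticGroup.mem_iff.mpr h⟩) mats_mem

/-- Coordinates of the vector with a code. -/
def elt (n : ℕ) : F4 := [F4.z, F4.e, F4.w, F4.x].getD (n % 4) .z

/-- The vector with a code. -/
def vecOf (n : ℕ) : Symplectic.Vec 2 F4 := Sum.elim ![elt n, elt (n / 4)] ![elt (n / 16), elt (n / 64)]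

/-- A spanning tree of the nonzero vectors. -/
def tree : List (ℕ × ℕ × ℕ) := [(0, 1, 17), (4, 1, 69), (5, 1, 84), (4, 17, 85), (2, 69, 21), (5, 69, 16), (2, 84, 20), (2, 85, 5), (1, 21, 157), (3, 21, 65), (5, 21, 4), (1, 20, 156), (3, 20, 80), (4, 20, 64), (1, 5, 141), (3, 5, 81), (2, 157, 77), (3, 157, 201), (5, 157, 140), (2, 4, 68), (2, 156, 92), (3, 156, 216), (4, 156, 200), (2, 141, 93), (3, 141, 217), (1, 77, 129), (3, 77, 213), (4, 77, 161), (5, 77, 58), (2, 201, 89), (2, 140, 76), (1, 92, 144), (3, 92, 212), (4, 92, 244), (5, 92, 43), (2, 216, 88), (2, 200, 72), (1, 93, 145), (3, 93, 197), (4, 93, 177), (5, 93, 127), (2, 217, 73), (3, 129, 25), (4, 129, 109), (5, 129, 246), (2, 213, 133), (4, 213, 57), (5, 213, 247), (5, 161, 124), (0, 58, 26), (2, 58, 154), (3, 58, 146), (1, 89, 29), (4, 89, 225), (5, 89, 106), (1, 76, 128), (3, 76, 196), (4, 76, 228), (5, 76, 110), (3, 144, 24), (4, 144, 56), (5, 144, 231), (2, 212, 148), (5,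 212, 163), (2, 244, 180), (5, 244, 41), (0, 43, 27), (2, 43, 155), (3, 43, 147), (4, 43, 79), (1, 88, 28), (4, 88, 164), (5, 88, 62), (1, 72, 12), (3, 72, 132), (5, 72, 123), (3, 145, 9), (4, 145, 125), (5, 145, 179), (2, 197, 149), (5, 197, 178), (2, 127, 143), (3, 127, 199), (1, 73, 13), (4, 73, 241), (5, 73, 47), (2, 25, 137), (4, 25, 245), (5, 25, 59), (2, 109, 189), (5, 109, 176), (0, 246, 214), (2, 246, 150), (3, 246, 94), (1, 133, 193), (4, 133, 61), (5, 133, 227), (2, 57, 169), (2, 247, 135), (2, 124, 188), (2, 26, 186), (4, 154, 18), (5, 154, 101), (2, 29, 205), (4, 29, 165), (5, 29, 46), (5, 225, 45), (0, 106, 74), (2, 106, 202), (3, 106, 134), (4, 106, 30), (3, 128, 8), (4, 128, 40), (5, 128, 162), (4, 196, 108), (5, 196, 230), (0, 110, 78), (2, 110, 142), (3, 110, 198), (2, 24, 152), (5, 24, 111), (2, 56, 184), (5, 56, 229), (0, 231, 215), (2, 231, 151), (3, 231, 95), (4, 231, 131), (1, 148, 208), (4, 148, 104), (5, 148, 242),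 (1, 180, 240), (3, 180, 120), (2, 41, 185), (2, 27, 171), (4, 155, 87), (5, 155, 49), (2, 79, 191), (2, 28, 220), (4, 28, 224), (5, 28, 122), (2, 62, 222), (3, 62, 210), (2, 12, 204), (3, 12, 192), (5, 12, 63), (5, 132, 183), (0, 123, 75), (2, 123, 203), (2, 9, 153), (5, 9, 126), (2, 125, 173), (3, 179, 11), (1, 149, 209), (5, 149, 166), (1, 143, 7), (3, 143, 251), (4, 143, 23), (5, 143, 97), (2, 13, 221), (4, 13, 181), (5, 13, 107), (0, 47, 31), (2, 47, 223), (3, 47, 211), (2, 59, 139), (1, 189, 53), (3, 189, 233), (5, 189, 6), (2, 214, 182), (4, 150, 226), (5, 150, 90), (2, 94, 190), (4, 193, 121), (5, 193, 167), (2, 61, 237), (5, 169, 86), (1, 135, 195), (1, 188, 52), (3, 188, 248), (4, 188, 232), (5, 188, 82), (4, 186, 50), (5, 186, 239), (0, 101, 117), (4, 101, 33), (5, 165, 105), (0, 46, 14), (2, 46, 206), (3, 46, 194), (2, 45, 253), (2, 74, 234), (1, 202, 66), (3, 202, 174), (4, 202, 22), (5, 202, 113), (2, 30, 254), (2, 8, 136),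 (4, 8, 160), (5, 8, 42), (2, 40, 168), (0, 162, 130), (3, 162, 10), (2, 108, 172), (2, 111, 159), (5, 184, 71), (2, 95, 175), (4, 208, 44), (3, 240, 60), (5, 185, 19), (4, 171, 103), (2, 87, 39), (1, 191, 55), (2, 122, 218), (5, 192, 243), (0, 63, 15), (2, 63, 207), (1, 203, 67), (4, 203, 83), (5, 203, 37), (2, 126, 158), (3, 173, 249), (2, 11, 187), (2, 7, 119), (3, 7, 115), (4, 251, 99), (0, 107, 91), (2, 107, 219), (5, 139, 116), (0, 6, 38), (2, 6, 102), (3, 6, 98), (2, 90, 250), (1, 190, 54), (0, 86, 118), (3, 52, 112), (4, 52, 96), (0, 82, 114), (4, 239, 35), (2, 14, 238), (4, 206, 70), (5, 206, 100), (2, 42, 138), (5, 168, 2), (2, 10, 170), (1, 172, 36), (3, 159, 235), (2, 44, 236), (2, 60, 252), (2, 15, 255), (4, 207, 3), (5, 207, 48), (5, 138, 32), (0, 2, 34), (4, 255, 51)]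

/-- The root of the tree. -/
def root : ℕ := 1

/-- Words for the transvections at the root. -/
def rootWords : List (F4 × List ℕ) := [(.e, [5, 0, 4, 5]), (.w, [4, 2, 5, 2, 1, 2, 5, 2, 4]), (.x, [4, 2, 5, 0, 2, 1, 3, 2, 5, 2, 4])]

end Cfsg.Agent.CosetEnum.He
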